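import Groth.Agent.Et18.H0Lift.ConnUnitQuot
import Groth.Agent.Et18.H0Lift.SepFieldBC
import Groth.Agent.Et18.H0Lift.AcyclicBC

/-!
# Global sections of inverse images along morphisms with connected geometric fibres
-/

set_option autoImplicit false
set_option linter.all false
set_option backward.isDefEq.respectTransparency.types false
set_option backward.isDefEq.respectTransparency false

universe u

open CategoryTheory CategoryTheory.Limits AlgebraicGeometry Opposite
open Groth.Agent.Et18.H0Lift

namespace Groth.Agent.EtConn

variable {X S : Scheme.{u}}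

/-- Connectedness of geometric fibres need only be tested on algebraically closed points. -/
theorem connFibres_of_algClosed (f : X ⟶ S)
    (h : ∀ (Ω : Type u) [Field Ω] [IsAlgClosed Ω] (s : Spec (CommRingCat.of Ω) ⟶ S), PreconnectedSpace ↥(pullback f s)) :
    ConnFibres f := by
  intro Ω₀ _ _ η
  let Ω := AlgebraicClosure Ω₀
  let j := Spec.map (CommRingCat.ofHom (algebraMap Ω₀ Ω))
  let l : pullback f (j ≫ η) ⟶ pullback f η :=
    pullback.lift (pullback.fst _ _) (pullback.snd _ _ ≫ j) (by rw [Category.assoc, pullback.condition])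
  have hl : IsPullback l (pullback.snd f (j ≫ η)) (pullback.snd f η) j := by
    refine IsPullback.of_right ?_ (pullback.lift_snd _ _ _) (IsPullback.of_hasPullback f η)
    rw [pullback.lift_fst]
    exact IsPullback.of_hasPullback f (j ≫ η)
  have : Surjective j := ⟨fun x => ⟨default, Subsingleton.elim _ _⟩⟩
  have : Surjective l := MorphismProperty.of_isPullback (P := @Surjective) hl.flip inferInstance
  have := h Ω (j ≫ η)
  exact l.surjective.denseRange.preconnectedSpace l.continuous

theorem uQuot_of_pullback (f : X ⟶ S)
    (h : ∀ (S' : Scheme.{u}) (g : S' ⟶ S), Topology.IsQuotientMap (pullback.snd f g).base) : UQuot f := by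
  intro X' Y' p' b' b sq
  have e : Topology.IsQuotientMap p' := by
    have hp : p' = sq.isoPullback.hom ≫ pullback.snd f b := sq.isoPullback_hom_snd.symm
    rw [hp]
    exact (h Y' b).comp (Scheme.homeoOfIso sq.isoPullback).isQuotientMap
  exact ⟨e.surjective, e⟩

theorem surjective_of_connected (f : X ⟶ S)
    (h : ∀ (Ω : Type u) [Field Ω] [IsAlgClosed Ω] (s : Spec (CommRingCat.of Ω) ⟶ S), Nonempty ↥(pullback f s)) :
    Surjective f := by
  refine ⟨fun y => ?_⟩
  let Ω := AlgebraicClosure (S.residueField y)
  let η : Spec (CommRingCat.of Ω) ⟶ S :=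
    Spec.map (CommRingCat.ofHom (algebraMap (S.residueField y) Ω)) ≫ S.fromSpecResidueField y
  obtain ⟨z⟩ := h Ω η
  refine ⟨pullback.fst f η z, ?_⟩
  rw [← Scheme.Hom.comp_apply, pullback.condition, Scheme.Hom.comp_apply, Scheme.Hom.comp_apply]
  exact Scheme.fromSpecResidueField_apply _ _

end Groth.Agent.EtConn
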