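import Groth.Agent.EtConn.Apps
import Groth.Agent.Et18.H0Lift.ConnStrictScheme

/-!
# Degree zero base change along morphisms with connected fibres on strict localizations
-/

set_option autoImplicit false
set_option linter.all false
set_option backward.isDefEq.respectTransparency.types false
set_option backward.isDefEq.respectTransparency false

universe u

open CategoryTheory CategoryTheory.Limits AlgebraicGeometry Opposite TopologicalSpace IsLocalRing
open Groth.Agent.Et18 Groth.Agent.Et18.H0Lift Groth.Agent.HenselLib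

namespace Groth.Agent.EtConn

theorem flat_strictMap {Y' Y : Scheme.{u}} (g : Y' ⟶ Y) [Flat g] (x : Y') (RX : Type u) [CommRing RX] [IsLocalRing RX]
    [Algebra (Y'.presheaf.stalk x) RX] [IsLocalHom (algebraMap (Y'.presheaf.stalk x) RX)]
    [Hensel.IsStrictHenselization (Y'.presheaf.stalk x) RX]
    (RY : Type u) [CommRing RY] [IsLocalRing RY] [Algebra (Y.presheaf.stalk (g x)) RY]
    [IsLocalHom (algebraMap (Y.presheaf.stalk (g x)) RY)] [Hensel.IsStrictHenselization (Y.presheaf.stalk (g x)) RY]
    [Algebra RY RX]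
    (h : (algebraMap RY RX).comp (algebraMap (Y.presheaf.stalk (g x)) RY) =
      (algebraMap (Y'.presheaf.stalk x) RX).comp (g.stalkMap x).hom) :
    Flat (Spec.map (CommRingCat.ofHom (algebraMap RY RX))) := by
  let : Algebra (Y.presheaf.stalk (g x)) (Y'.presheaf.stalk x) := (g.stalkMap x).hom.toAlgebra
  let : Algebra (Y.presheaf.stalk (g x)) RX :=
    ((algebraMap (Y'.presheaf.stalk x) RX).comp (g.stalkMap x).hom).toAlgebra
  have : IsScalarTower (Y.presheaf.stalk (g x)) (Y'.presheaf.stalk x) RX := IsScalarTower.of_algebraMap_eq' rfl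
  have : IsScalarTower (Y.presheaf.stalk (g x)) RY RX := IsScalarTower.of_algebraMap_eq' h.symm
  have : Module.Flat (Y.presheaf.stalk (g x)) (Y'.presheaf.stalk x) := Flat.stalkMap g x
  have hb1 : IsLocalization (⊥ : Submonoid (Y.presheaf.stalk (g x))) (Y.presheaf.stalk (g x)) :=
    IsLocalization.self fun a ha => Submonoid.mem_bot.mp ha ▸ isUnit_one
  have hb2 : IsLocalization (⊥ : Submonoid (Y'.presheaf.stalk x)) (Y'.presheaf.stalk x) :=
    IsLocalization.self fun a ha => Submonoid.mem_bot.mp ha ▸ isUnit_one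
  obtain ⟨eY, -⟩ := SHull.exists_equiv (A := Y.presheaf.stalk (g x)) (R := RY) (Y.presheaf.stalk (g x)) ⊥
  obtain ⟨eX, -⟩ := SHull.exists_equiv (A := Y'.presheaf.stalk x) (R := RX) (Y'.presheaf.stalk x) ⊥
  exact (HasRingHomProperty.Spec_iff (P := @Flat)).mpr (RingHom.flat_algebraMap_iff.mpr (flat_strict_map eY eX))

theorem surjective_strictMap (RX RY : Type u) [CommRing RX] [IsLocalRing RX] [CommRing RY] [IsLocalRing RY]
    [Algebra RY RX] [IsLocalHom (algebraMap RY RX)] [Flat (Spec.map (CommRingCat.ofHom (algebraMap RY RX)))] :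
    Surjective (Spec.map (CommRingCat.ofHom (algebraMap RY RX))) := by
  have h := (HasRingHomProperty.Spec_iff (P := @Flat)).mp
    (inferInstance : Flat (Spec.map (CommRingCat.ofHom (algebraMap RY RX))))
  have : Module.Flat RY RX := RingHom.flat_algebraMap_iff.mp h
  have : Module.FaithfullyFlat RY RX := Module.FaithfullyFlat.of_flat_of_isLocalHom
  exact ⟨PrimeSpectrum.comap_surjective_of_faithfullyFlat⟩

variable {X Y X' Y' : Scheme.{u}} {f : X ⟶ Y} {g : Y' ⟶ Y} {f' : X' ⟶ Y'} {g' : X' ⟶ X}
  (h : IsPullback g' f' f g) (F : EtCoh.Ab X)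

set_option maxHeartbeats 1000000 in
include h in
/-- Base change for direct images along flat morphisms whose maps of strict localizations have
connected geometric fibres. -/
theorem isIso_baseChange0_of_strictConn [QuasiCompact f] [QuasiSeparated f] [Flat g]
    (hg : ∀ (x : Y') (RS : Type u) [CommRing RS] [IsLocalRing RS] [Algebra (Y.presheaf.stalk (g x)) RS]
      [IsLocalHom (algebraMap (Y.presheaf.stalk (g x)) RS)]
      [Hensel.IsStrictHenselization (Y.presheaf.stalk (g x)) RS]
      (RX : Type u) [CommRing RX] [IsLocalRing RX] [Algebra (Y'.presheaf.stalk x) RX]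
      [IsLocalHom (algebraMap (Y'.presheaf.stalk x) RX)] [Hensel.IsStrictHenselization (Y'.presheaf.stalk x) RX]
      (ψ : RS →+* RX) [IsLocalHom ψ],
      ψ.comp (algebraMap (Y.presheaf.stalk (g x)) RS) = (algebraMap (Y'.presheaf.stalk x) RX).comp (g.stalkMap x).hom →
      ConnFibres (Spec.map (CommRingCat.ofHom ψ))) : IsIso (EtCoh.baseChange0 f g f' g' h.w F) := by
  have : QuasiCompact f' := MorphismProperty.of_isPullback (P := @QuasiCompact) h inferInstance
  have : QuasiSeparated f' := MorphismProperty.of_isPullback (P := @QuasiSeparated) h inferInstance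
  let RX := fun z : ULift.{u + 1} Y' => LocalSH (Y'.presheaf.stalk z.down)
  have hRX := fun z : ULift.{u + 1} Y' => isStrictHenselization_localSH (R := Y'.presheaf.stalk z.down)
  have : ∀ z, IsSepClosed (ResidueField (RX z)) := fun z => (hRX z).isSepClosure.sep_closed
  let ξs : ∀ z : ULift.{u + 1} Y', Spec (CommRingCat.of (ResidueField (RX z))) ⟶ Y' := fun z =>
    cPt (RingHom.id _) ≫ Hens2.specOf Y' z.down (RX z)
  refine isIso_of_stalks_family ξs (fun y => ⟨⟨y⟩, ?_⟩) _ fun z =>
    (ConcreteCategory.isIso_iff_bijective _).mpr ?_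
  · change (cPt (RingHom.id _) ≫ Hens2.specOf Y' y (RX ⟨y⟩)) default = y
    rw [Scheme.Hom.comp_apply, cPt_default]
    exact Specialization.specOf_closedPoint _
  let R' := RX z
  let R := LocalSH (Y.presheaf.stalk (g z.down))
  have hR := isStrictHenselization_localSH (R := Y.presheaf.stalk (g z.down))
  have := hR.isSepClosure.sep_closed
  have := hR.henselian
  have := (hRX z).henselian
  let φ : Y.presheaf.stalk (g z.down) →+* R' :=
    (algebraMap (Y'.presheaf.stalk z.down) R').comp (g.stalkMap z.down).hom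
  have : IsLocalHom φ := RingHom.isLocalHom_comp _ _
  let : Algebra (ResidueField (Y.presheaf.stalk (g z.down))) (ResidueField R') :=
    (ResidueField.map φ).toAlgebra
  have : Algebra.IsSeparable (ResidueField (Y.presheaf.stalk (g z.down))) (ResidueField R) :=
    hR.isSepClosure.separable
  let τ : ResidueField R →ₐ[ResidueField (Y.presheaf.stalk (g z.down))] ResidueField R' := IsSepClosed.lift
  obtain ⟨γ, ⟨hγ, hγτ⟩, -⟩ := hR.universal R' φ τ.toRingHom (RingHom.ext fun r => τ.commutes r)
  let : Algebra R R' := γ.toAlgebra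
  have : IsLocalHom γ := ⟨fun r hr => by
    by_contra hn
    have h0 : residue R r = 0 := (residue_eq_zero_iff r).2 ((mem_maximalIdeal r).2 hn)
    have h1 : residue R' (algebraMap R R' r) = 0 := (hγτ r).trans (by rw [h0, map_zero])
    exact (residue_eq_zero_iff _).1 h1 hr⟩
  have : IsLocalHom (algebraMap R R') := ‹IsLocalHom γ›
  let k := Spec.map (CommRingCat.ofHom (algebraMap R R'))
  let sH : Spec (CommRingCat.of R) ⟶ Y := Hens2.specOf Y (g z.down) R
  let sH' : Spec (CommRingCat.of R') ⟶ Y' := Hens2.specOf Y' z.down R'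
  have hk : k ≫ sH = sH' ≫ g := by
    simp only [k, sH, sH', Hens2.specOf]
    rw [← Category.assoc, ← Spec.map_comp,
      show CommRingCat.ofHom (algebraMap (Y.presheaf.stalk (g z.down)) R) ≫ CommRingCat.ofHom (algebraMap R R') =
        g.stalkMap z.down ≫ CommRingCat.ofHom (algebraMap (Y'.presheaf.stalk z.down) R') from CommRingCat.hom_ext hγ,
      Spec.map_comp]
    exact ((Category.assoc _ _ _).trans (congrArg (_ ≫ ·) (Scheme.SpecMap_stalkMap_fromSpecStalk g))).trans
      (Category.assoc _ _ _).symm
  let ρ' : ResidueField R' →+* ResidueField R' := RingHom.id _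
  have hkρ : cPt ρ' ≫ k = cPt τ.toRingHom := by
    rw [← Spec.map_comp]
    exact congrArg Spec.map (CommRingCat.hom_ext (RingHom.ext fun r => hγτ r))
  have hξ : (cPt ρ' ≫ sH') ≫ g = cPt τ.toRingHom ≫ sH := by
    exact ((Category.assoc _ _ _).trans (congrArg (cPt ρ' ≫ ·) hk.symm)).trans
      ((Category.assoc _ _ _).symm.trans (congrArg (· ≫ sH) hkρ))
  let ξ : FibrePts g (cPt τ.toRingHom ≫ sH) := ⟨cPt ρ' ≫ sH', hξ⟩
  -- the strict localizations of the spaces
  let Z := pullback f sH
  let Z' := pullback f' sH'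
  have sq₁ : IsPullback (pullback.fst f sH) (pullback.snd f sH) f sH := IsPullback.of_hasPullback f sH
  have sq₁' : IsPullback (pullback.fst f' sH') (pullback.snd f' sH') f' sH' := IsPullback.of_hasPullback f' sH'
  let m : Z' ⟶ Z := pullback.lift (pullback.fst f' sH' ≫ g') (pullback.snd f' sH' ≫ k)
    (((Category.assoc _ _ _).trans (congrArg (_ ≫ ·) h.w)).trans ((Category.assoc _ _ _).symm.trans
      ((congrArg (· ≫ g) pullback.condition).trans ((Category.assoc _ _ _).trans
        ((congrArg (_ ≫ ·) hk.symm).trans (Category.assoc _ _ _).symm)))))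
  have hm : m ≫ pullback.fst f sH = pullback.fst f' sH' ≫ g' := pullback.lift_fst _ _ _
  have hmp : m ≫ pullback.snd f sH = pullback.snd f' sH' ≫ k := pullback.lift_snd _ _ _
  have sqm : IsPullback m (pullback.snd f' sH') (pullback.snd f sH) k := by
    refine IsPullback.of_right ?_ hmp sq₁
    rw [hm, hk]
    exact sq₁'.paste_horiz h
  have : Flat k := flat_strictMap g z.down R' R hγ
  have : Surjective k := surjective_strictMap R' R
  have hc : ConnFibres k := hg z.down R R' γ hγ
  have : Flat m := MorphismProperty.of_isPullback (P := @Flat) sqm.flip inferInstance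
  have : QuasiCompact m := MorphismProperty.of_isPullback (P := @QuasiCompact) sqm.flip inferInstance
  have : Surjective m := MorphismProperty.of_isPullback (P := @Surjective) sqm.flip inferInstance
  have hunit := isIso_unit_of_connFibres (p := m) ((EtCoh.pull (pullback.fst f sH)).obj F)
    (ConnFibres.isPullback hc sqm.flip)
  have hps : Function.Bijective (pullSec m (pullback.fst f sH) F hm) := bijective_pullSec m _ F hm
    (ConcreteCategory.bijective_of_isIso (((sheafToPresheaf _ _).map
      ((EtCoh.pullPushAdj m).unit.app ((EtCoh.pull (pullback.fst f sH)).obj F))).app _))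
  have := isIso_compHom (pullback.fst f' sH') g' F
  have hκ : Function.Bijective ((compHom (pullback.fst f' sH') g' F).hom.app (op (EtCoh.top Z'))) := by
    have : IsIso ((compHom (pullback.fst f' sH') g' F).hom.app (op (EtCoh.top Z'))) :=
      inferInstanceAs (IsIso (((sheafToPresheaf _ _).map (compHom (pullback.fst f' sH') g' F)).app _))
    exact ConcreteCategory.bijective_of_isIso _
  obtain ⟨A, _, _, g₀, _, ⟨e⟩, he⟩ := exists_hullEquiv (g z.down) R
  obtain ⟨A', _, _, g₀', _, ⟨e'⟩, he'⟩ := exists_hullEquiv z.down R'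
  have hb := bijective_toStrictSec F τ.toRingHom sq₁ g₀ e he
  have hb' := bijective_toStrictSec ((EtCoh.pull g').obj F) ρ' sq₁' g₀' e' he'
  have hfun : (fun ε => (compHom (pullback.fst f' sH') g' F).hom.app (op (EtCoh.top Z'))
        (pullSec m (pullback.fst f sH) F hm (toStrictSec F τ.toRingHom sq₁ ε))) =
      fun ε => toStrictSec ((EtCoh.pull g').obj F) ρ' sq₁' ((EtCoh.stalk (ξs z)).map
        (EtCoh.baseChange0 f g f' g' h.w F) (toPull g (cPt τ.toRingHom ≫ sH) ξ ((EtCoh.push f).obj F) ε)) :=
    funext fun ε => toStrictSec_baseChange0 h F τ.toRingHom ρ' sq₁ sq₁' k hk hkρ m hm hmp ξ rfl ε _ HEq.rfl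
  have hcomp0 : Function.Bijective fun ε => (compHom (pullback.fst f' sH') g' F).hom.app (op (EtCoh.top Z'))
      (pullSec m (pullback.fst f sH) F hm (toStrictSec F τ.toRingHom sq₁ ε)) := (hκ.comp hps).comp hb
  have hcomp := hfun ▸ hcomp0
  have h2 := (Function.Bijective.of_comp_iff' hb' _).mp hcomp
  exact (Function.Bijective.of_comp_iff
    (fun w => (EtCoh.stalk (ξs z)).map (EtCoh.baseChange0 f g f' g' h.w F) w)
    (bijective_toPull g ξ _)).mp h2

end Groth.Agent.EtConn
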